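import Cfsg.Agent.Lib.Helper99.CHO.Defs2

/-!
# CHO (S1083): coordinate calculus for the root elements of type `B2` on `K^5`
-/

set_option autoImplicit false

namespace Cfsg.Agent.Lib.Helper38.CHO

open Matrix Cfsg.Agent.Lib.Helper99.CHO

universe u

variable {K : Type u} [Field K]

/-- the index type of `K^5` -/
abbrev I5 : Type := Unit ⊕ (Fin 2 ⊕ Fin 2)

theorem Q_eq (v : I5 → K) :
    Cfsg.quadFormOdd 2 K v = v (Sum.inl ()) ^ 2 +
      v (Sum.inr (Sum.inl 0)) * v (Sum.inr (Sum.inr 0)) +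
      v (Sum.inr (Sum.inl 1)) * v (Sum.inr (Sum.inr 1)) := by
  simp [Cfsg.quadFormOdd, Fin.sum_univ_two]
  ring

theorem vec_ext {v w : I5 → K} (h0 : v (Sum.inl ()) = w (Sum.inl ()))
    (h1 : v (Sum.inr (Sum.inl 0)) = w (Sum.inr (Sum.inl 0)))
    (h2 : v (Sum.inr (Sum.inl 1)) = w (Sum.inr (Sum.inl 1)))
    (h3 : v (Sum.inr (Sum.inr 0)) = w (Sum.inr (Sum.inr 0)))
    (h4 : v (Sum.inr (Sum.inr 1)) = w (Sum.inr (Sum.inr 1))) : v = w := by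
  funext i
  rcases i with (i | (i | i))
  · exact h0
  · fin_cases i
    · exact h1
    · exact h2
  · fin_cases i
    · exact h3
    · exact h4

theorem E0_x0 (t : K) (v : I5 → K) :
    (EB2mat K 0 t *ᵥ v) (Sum.inl ()) = v (Sum.inl ()) := by
  simp [EB2mat, NB2, MB2, tab3, nListB2, mListB2, ix5, Matrix.mulVec, dotProduct,
    Fintype.sum_sum_type, Fin.sum_univ_two, Matrix.add_apply, Matrix.one_apply]
  try ring

theorem E0_x1 (t : K) (v : I5 → K) :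
    (EB2mat K 0 t *ᵥ v) (Sum.inr (Sum.inl 0)) = v (Sum.inr (Sum.inl 0)) := by
  simp [EB2mat, NB2, MB2, tab3, nListB2, mListB2, ix5, Matrix.mulVec, dotProduct,
    Fintype.sum_sum_type, Fin.sum_univ_two, Matrix.add_apply, Matrix.one_apply]
  try ring

theorem E0_x2 (t : K) (v : I5 → K) :
    (EB2mat K 0 t *ᵥ v) (Sum.inr (Sum.inl 1)) = v (Sum.inr (Sum.inl 1)) := by
  simp [EB2mat, NB2, MB2, tab3, nListB2, mListB2, ix5, Matrix.mulVec, dotProduct,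
    Fintype.sum_sum_type, Fin.sum_univ_two, Matrix.add_apply, Matrix.one_apply]
  try ring

theorem E0_y1 (t : K) (v : I5 → K) :
    (EB2mat K 0 t *ᵥ v) (Sum.inr (Sum.inr 0)) = v (Sum.inr (Sum.inr 0)) - t * v (Sum.inr (Sum.inl 1)) := by
  simp [EB2mat, NB2, MB2, tab3, nListB2, mListB2, ix5, Matrix.mulVec, dotProduct,
    Fintype.sum_sum_type, Fin.sum_univ_two, Matrix.add_apply, Matrix.one_apply]
  try ring

theorem E0_y2 (t : K) (v : I5 → K) :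
    (EB2mat K 0 t *ᵥ v) (Sum.inr (Sum.inr 1)) = v (Sum.inr (Sum.inr 1)) + t * v (Sum.inr (Sum.inl 0)) := by
  simp [EB2mat, NB2, MB2, tab3, nListB2, mListB2, ix5, Matrix.mulVec, dotProduct,
    Fintype.sum_sum_type, Fin.sum_univ_two, Matrix.add_apply, Matrix.one_apply]
  try ring

theorem E0_Q (t : K) (v : I5 → K) :
    Cfsg.quadFormOdd 2 K (EB2mat K 0 t *ᵥ v) = Cfsg.quadFormOdd 2 K v := by
  rw [Q_eq, Q_eq, E0_x0, E0_x1, E0_x2, E0_y1, E0_y2]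
  ring

theorem E1_x0 (t : K) (v : I5 → K) :
    (EB2mat K 1 t *ᵥ v) (Sum.inl ()) = v (Sum.inl ()) + t * v (Sum.inr (Sum.inl 0)) := by
  simp [EB2mat, NB2, MB2, tab3, nListB2, mListB2, ix5, Matrix.mulVec, dotProduct,
    Fintype.sum_sum_type, Fin.sum_univ_two, Matrix.add_apply, Matrix.one_apply]
  try ring

theorem E1_x1 (t : K) (v : I5 → K) :
    (EB2mat K 1 t *ᵥ v) (Sum.inr (Sum.inl 0)) = v (Sum.inr (Sum.inl 0)) := by
  simp [EB2mat, NB2, MB2, tab3, nListB2, mListB2, ix5, Matrix.mulVec, dotProduct,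
    Fintype.sum_sum_type, Fin.sum_univ_two, Matrix.add_apply, Matrix.one_apply]
  try ring

theorem E1_x2 (t : K) (v : I5 → K) :
    (EB2mat K 1 t *ᵥ v) (Sum.inr (Sum.inl 1)) = v (Sum.inr (Sum.inl 1)) := by
  simp [EB2mat, NB2, MB2, tab3, nListB2, mListB2, ix5, Matrix.mulVec, dotProduct,
    Fintype.sum_sum_type, Fin.sum_univ_two, Matrix.add_apply, Matrix.one_apply]
  try ring

theorem E1_y1 (t : K) (v : I5 → K) :
    (EB2mat K 1 t *ᵥ v) (Sum.inr (Sum.inr 0)) = v (Sum.inr (Sum.inr 0)) - 2 * t * v (Sum.inl ()) - t ^ 2 * v (Sum.inr (Sum.inl 0)) := by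
  simp [EB2mat, NB2, MB2, tab3, nListB2, mListB2, ix5, Matrix.mulVec, dotProduct,
    Fintype.sum_sum_type, Fin.sum_univ_two, Matrix.add_apply, Matrix.one_apply]
  try ring

theorem E1_y2 (t : K) (v : I5 → K) :
    (EB2mat K 1 t *ᵥ v) (Sum.inr (Sum.inr 1)) = v (Sum.inr (Sum.inr 1)) := by
  simp [EB2mat, NB2, MB2, tab3, nListB2, mListB2, ix5, Matrix.mulVec, dotProduct,
    Fintype.sum_sum_type, Fin.sum_univ_two, Matrix.add_apply, Matrix.one_apply]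
  try ring

theorem E1_Q (t : K) (v : I5 → K) :
    Cfsg.quadFormOdd 2 K (EB2mat K 1 t *ᵥ v) = Cfsg.quadFormOdd 2 K v := by
  rw [Q_eq, Q_eq, E1_x0, E1_x1, E1_x2, E1_y1, E1_y2]
  ring

theorem E2_x0 (t : K) (v : I5 → K) :
    (EB2mat K 2 t *ᵥ v) (Sum.inl ()) = v (Sum.inl ()) + t * v (Sum.inr (Sum.inl 1)) := by
  simp [EB2mat, NB2, MB2, tab3, nListB2, mListB2, ix5, Matrix.mulVec, dotProduct,
    Fintype.sum_sum_type, Fin.sum_univ_two, Matrix.add_apply, Matrix.one_apply]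
  try ring

theorem E2_x1 (t : K) (v : I5 → K) :
    (EB2mat K 2 t *ᵥ v) (Sum.inr (Sum.inl 0)) = v (Sum.inr (Sum.inl 0)) := by
  simp [EB2mat, NB2, MB2, tab3, nListB2, mListB2, ix5, Matrix.mulVec, dotProduct,
    Fintype.sum_sum_type, Fin.sum_univ_two, Matrix.add_apply, Matrix.one_apply]
  try ring

theorem E2_x2 (t : K) (v : I5 → K) :
    (EB2mat K 2 t *ᵥ v) (Sum.inr (Sum.inl 1)) = v (Sum.inr (Sum.inl 1)) := by
  simp [EB2mat, NB2, MB2, tab3, nListB2, mListB2, ix5, Matrix.mulVec, dotProduct,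
    Fintype.sum_sum_type, Fin.sum_univ_two, Matrix.add_apply, Matrix.one_apply]
  try ring

theorem E2_y1 (t : K) (v : I5 → K) :
    (EB2mat K 2 t *ᵥ v) (Sum.inr (Sum.inr 0)) = v (Sum.inr (Sum.inr 0)) := by
  simp [EB2mat, NB2, MB2, tab3, nListB2, mListB2, ix5, Matrix.mulVec, dotProduct,
    Fintype.sum_sum_type, Fin.sum_univ_two, Matrix.add_apply, Matrix.one_apply]
  try ring

theorem E2_y2 (t : K) (v : I5 → K) :
    (EB2mat K 2 t *ᵥ v) (Sum.inr (Sum.inr 1)) = v (Sum.inr (Sum.inr 1)) - 2 * t * v (Sum.inl ()) - t ^ 2 * v (Sum.inr (Sum.inl 1)) := by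
  simp [EB2mat, NB2, MB2, tab3, nListB2, mListB2, ix5, Matrix.mulVec, dotProduct,
    Fintype.sum_sum_type, Fin.sum_univ_two, Matrix.add_apply, Matrix.one_apply]
  try ring

theorem E2_Q (t : K) (v : I5 → K) :
    Cfsg.quadFormOdd 2 K (EB2mat K 2 t *ᵥ v) = Cfsg.quadFormOdd 2 K v := by
  rw [Q_eq, Q_eq, E2_x0, E2_x1, E2_x2, E2_y1, E2_y2]
  ring

theorem E3_x0 (t : K) (v : I5 → K) :
    (EB2mat K 3 t *ᵥ v) (Sum.inl ()) = v (Sum.inl ()) := by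
  simp [EB2mat, NB2, MB2, tab3, nListB2, mListB2, ix5, Matrix.mulVec, dotProduct,
    Fintype.sum_sum_type, Fin.sum_univ_two, Matrix.add_apply, Matrix.one_apply]
  try ring

theorem E3_x1 (t : K) (v : I5 → K) :
    (EB2mat K 3 t *ᵥ v) (Sum.inr (Sum.inl 0)) = v (Sum.inr (Sum.inl 0)) := by
  simp [EB2mat, NB2, MB2, tab3, nListB2, mListB2, ix5, Matrix.mulVec, dotProduct,
    Fintype.sum_sum_type, Fin.sum_univ_two, Matrix.add_apply, Matrix.one_apply]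
  try ring

theorem E3_x2 (t : K) (v : I5 → K) :
    (EB2mat K 3 t *ᵥ v) (Sum.inr (Sum.inl 1)) = v (Sum.inr (Sum.inl 1)) + t * v (Sum.inr (Sum.inl 0)) := by
  simp [EB2mat, NB2, MB2, tab3, nListB2, mListB2, ix5, Matrix.mulVec, dotProduct,
    Fintype.sum_sum_type, Fin.sum_univ_two, Matrix.add_apply, Matrix.one_apply]
  try ring

theorem E3_y1 (t : K) (v : I5 → K) :
    (EB2mat K 3 t *ᵥ v) (Sum.inr (Sum.inr 0)) = v (Sum.inr (Sum.inr 0)) - t * v (Sum.inr (Sum.inr 1)) := by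
  simp [EB2mat, NB2, MB2, tab3, nListB2, mListB2, ix5, Matrix.mulVec, dotProduct,
    Fintype.sum_sum_type, Fin.sum_univ_two, Matrix.add_apply, Matrix.one_apply]
  try ring

theorem E3_y2 (t : K) (v : I5 → K) :
    (EB2mat K 3 t *ᵥ v) (Sum.inr (Sum.inr 1)) = v (Sum.inr (Sum.inr 1)) := by
  simp [EB2mat, NB2, MB2, tab3, nListB2, mListB2, ix5, Matrix.mulVec, dotProduct,
    Fintype.sum_sum_type, Fin.sum_univ_two, Matrix.add_apply, Matrix.one_apply]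
  try ring

theorem E3_Q (t : K) (v : I5 → K) :
    Cfsg.quadFormOdd 2 K (EB2mat K 3 t *ᵥ v) = Cfsg.quadFormOdd 2 K v := by
  rw [Q_eq, Q_eq, E3_x0, E3_x1, E3_x2, E3_y1, E3_y2]
  ring

theorem E4_x0 (t : K) (v : I5 → K) :
    (EB2mat K 4 t *ᵥ v) (Sum.inl ()) = v (Sum.inl ()) := by
  simp [EB2mat, NB2, MB2, tab3, nListB2, mListB2, ix5, Matrix.mulVec, dotProduct,
    Fintype.sum_sum_type, Fin.sum_univ_two, Matrix.add_apply, Matrix.one_apply]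
  try ring

theorem E4_x1 (t : K) (v : I5 → K) :
    (EB2mat K 4 t *ᵥ v) (Sum.inr (Sum.inl 0)) = v (Sum.inr (Sum.inl 0)) + t * v (Sum.inr (Sum.inl 1)) := by
  simp [EB2mat, NB2, MB2, tab3, nListB2, mListB2, ix5, Matrix.mulVec, dotProduct,
    Fintype.sum_sum_type, Fin.sum_univ_two, Matrix.add_apply, Matrix.one_apply]
  try ring

theorem E4_x2 (t : K) (v : I5 → K) :
    (EB2mat K 4 t *ᵥ v) (Sum.inr (Sum.inl 1)) = v (Sum.inr (Sum.inl 1)) := by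
  simp [EB2mat, NB2, MB2, tab3, nListB2, mListB2, ix5, Matrix.mulVec, dotProduct,
    Fintype.sum_sum_type, Fin.sum_univ_two, Matrix.add_apply, Matrix.one_apply]
  try ring

theorem E4_y1 (t : K) (v : I5 → K) :
    (EB2mat K 4 t *ᵥ v) (Sum.inr (Sum.inr 0)) = v (Sum.inr (Sum.inr 0)) := by
  simp [EB2mat, NB2, MB2, tab3, nListB2, mListB2, ix5, Matrix.mulVec, dotProduct,
    Fintype.sum_sum_type, Fin.sum_univ_two, Matrix.add_apply, Matrix.one_apply]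
  try ring

theorem E4_y2 (t : K) (v : I5 → K) :
    (EB2mat K 4 t *ᵥ v) (Sum.inr (Sum.inr 1)) = v (Sum.inr (Sum.inr 1)) - t * v (Sum.inr (Sum.inr 0)) := by
  simp [EB2mat, NB2, MB2, tab3, nListB2, mListB2, ix5, Matrix.mulVec, dotProduct,
    Fintype.sum_sum_type, Fin.sum_univ_two, Matrix.add_apply, Matrix.one_apply]
  try ring

theorem E4_Q (t : K) (v : I5 → K) :
    Cfsg.quadFormOdd 2 K (EB2mat K 4 t *ᵥ v) = Cfsg.quadFormOdd 2 K v := by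
  rw [Q_eq, Q_eq, E4_x0, E4_x1, E4_x2, E4_y1, E4_y2]
  ring

theorem E5_x0 (t : K) (v : I5 → K) :
    (EB2mat K 5 t *ᵥ v) (Sum.inl ()) = v (Sum.inl ()) - t * v (Sum.inr (Sum.inr 1)) := by
  simp [EB2mat, NB2, MB2, tab3, nListB2, mListB2, ix5, Matrix.mulVec, dotProduct,
    Fintype.sum_sum_type, Fin.sum_univ_two, Matrix.add_apply, Matrix.one_apply]
  try ring

theorem E5_x1 (t : K) (v : I5 → K) :
    (EB2mat K 5 t *ᵥ v) (Sum.inr (Sum.inl 0)) = v (Sum.inr (Sum.inl 0)) := by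
  simp [EB2mat, NB2, MB2, tab3, nListB2, mListB2, ix5, Matrix.mulVec, dotProduct,
    Fintype.sum_sum_type, Fin.sum_univ_two, Matrix.add_apply, Matrix.one_apply]
  try ring

theorem E5_x2 (t : K) (v : I5 → K) :
    (EB2mat K 5 t *ᵥ v) (Sum.inr (Sum.inl 1)) = v (Sum.inr (Sum.inl 1)) + 2 * t * v (Sum.inl ()) - t ^ 2 * v (Sum.inr (Sum.inr 1)) := by
  simp [EB2mat, NB2, MB2, tab3, nListB2, mListB2, ix5, Matrix.mulVec, dotProduct,
    Fintype.sum_sum_type, Fin.sum_univ_two, Matrix.add_apply, Matrix.one_apply]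
  try ring

theorem E5_y1 (t : K) (v : I5 → K) :
    (EB2mat K 5 t *ᵥ v) (Sum.inr (Sum.inr 0)) = v (Sum.inr (Sum.inr 0)) := by
  simp [EB2mat, NB2, MB2, tab3, nListB2, mListB2, ix5, Matrix.mulVec, dotProduct,
    Fintype.sum_sum_type, Fin.sum_univ_two, Matrix.add_apply, Matrix.one_apply]
  try ring

theorem E5_y2 (t : K) (v : I5 → K) :
    (EB2mat K 5 t *ᵥ v) (Sum.inr (Sum.inr 1)) = v (Sum.inr (Sum.inr 1)) := by
  simp [EB2mat, NB2, MB2, tab3, nListB2, mListB2, ix5, Matrix.mulVec, dotProduct,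
    Fintype.sum_sum_type, Fin.sum_univ_two, Matrix.add_apply, Matrix.one_apply]
  try ring

theorem E5_Q (t : K) (v : I5 → K) :
    Cfsg.quadFormOdd 2 K (EB2mat K 5 t *ᵥ v) = Cfsg.quadFormOdd 2 K v := by
  rw [Q_eq, Q_eq, E5_x0, E5_x1, E5_x2, E5_y1, E5_y2]
  ring

theorem E6_x0 (t : K) (v : I5 → K) :
    (EB2mat K 6 t *ᵥ v) (Sum.inl ()) = v (Sum.inl ()) - t * v (Sum.inr (Sum.inr 0)) := by
  simp [EB2mat, NB2, MB2, tab3, nListB2, mListB2, ix5, Matrix.mulVec, dotProduct,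
    Fintype.sum_sum_type, Fin.sum_univ_two, Matrix.add_apply, Matrix.one_apply]
  try ring

theorem E6_x1 (t : K) (v : I5 → K) :
    (EB2mat K 6 t *ᵥ v) (Sum.inr (Sum.inl 0)) = v (Sum.inr (Sum.inl 0)) + 2 * t * v (Sum.inl ()) - t ^ 2 * v (Sum.inr (Sum.inr 0)) := by
  simp [EB2mat, NB2, MB2, tab3, nListB2, mListB2, ix5, Matrix.mulVec, dotProduct,
    Fintype.sum_sum_type, Fin.sum_univ_two, Matrix.add_apply, Matrix.one_apply]
  try ring

theorem E6_x2 (t : K) (v : I5 → K) :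
    (EB2mat K 6 t *ᵥ v) (Sum.inr (Sum.inl 1)) = v (Sum.inr (Sum.inl 1)) := by
  simp [EB2mat, NB2, MB2, tab3, nListB2, mListB2, ix5, Matrix.mulVec, dotProduct,
    Fintype.sum_sum_type, Fin.sum_univ_two, Matrix.add_apply, Matrix.one_apply]
  try ring

theorem E6_y1 (t : K) (v : I5 → K) :
    (EB2mat K 6 t *ᵥ v) (Sum.inr (Sum.inr 0)) = v (Sum.inr (Sum.inr 0)) := by
  simp [EB2mat, NB2, MB2, tab3, nListB2, mListB2, ix5, Matrix.mulVec, dotProduct,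
    Fintype.sum_sum_type, Fin.sum_univ_two, Matrix.add_apply, Matrix.one_apply]
  try ring

theorem E6_y2 (t : K) (v : I5 → K) :
    (EB2mat K 6 t *ᵥ v) (Sum.inr (Sum.inr 1)) = v (Sum.inr (Sum.inr 1)) := by
  simp [EB2mat, NB2, MB2, tab3, nListB2, mListB2, ix5, Matrix.mulVec, dotProduct,
    Fintype.sum_sum_type, Fin.sum_univ_two, Matrix.add_apply, Matrix.one_apply]
  try ring

theorem E6_Q (t : K) (v : I5 → K) :
    Cfsg.quadFormOdd 2 K (EB2mat K 6 t *ᵥ v) = Cfsg.quadFormOdd 2 K v := by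
  rw [Q_eq, Q_eq, E6_x0, E6_x1, E6_x2, E6_y1, E6_y2]
  ring

theorem E7_x0 (t : K) (v : I5 → K) :
    (EB2mat K 7 t *ᵥ v) (Sum.inl ()) = v (Sum.inl ()) := by
  simp [EB2mat, NB2, MB2, tab3, nListB2, mListB2, ix5, Matrix.mulVec, dotProduct,
    Fintype.sum_sum_type, Fin.sum_univ_two, Matrix.add_apply, Matrix.one_apply]
  try ring

theorem E7_x1 (t : K) (v : I5 → K) :
    (EB2mat K 7 t *ᵥ v) (Sum.inr (Sum.inl 0)) = v (Sum.inr (Sum.inl 0)) + t * v (Sum.inr (Sum.inr 1)) := by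
  simp [EB2mat, NB2, MB2, tab3, nListB2, mListB2, ix5, Matrix.mulVec, dotProduct,
    Fintype.sum_sum_type, Fin.sum_univ_two, Matrix.add_apply, Matrix.one_apply]
  try ring

theorem E7_x2 (t : K) (v : I5 → K) :
    (EB2mat K 7 t *ᵥ v) (Sum.inr (Sum.inl 1)) = v (Sum.inr (Sum.inl 1)) - t * v (Sum.inr (Sum.inr 0)) := by
  simp [EB2mat, NB2, MB2, tab3, nListB2, mListB2, ix5, Matrix.mulVec, dotProduct,
    Fintype.sum_sum_type, Fin.sum_univ_two, Matrix.add_apply, Matrix.one_apply]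
  try ring

theorem E7_y1 (t : K) (v : I5 → K) :
    (EB2mat K 7 t *ᵥ v) (Sum.inr (Sum.inr 0)) = v (Sum.inr (Sum.inr 0)) := by
  simp [EB2mat, NB2, MB2, tab3, nListB2, mListB2, ix5, Matrix.mulVec, dotProduct,
    Fintype.sum_sum_type, Fin.sum_univ_two, Matrix.add_apply, Matrix.one_apply]
  try ring

theorem E7_y2 (t : K) (v : I5 → K) :
    (EB2mat K 7 t *ᵥ v) (Sum.inr (Sum.inr 1)) = v (Sum.inr (Sum.inr 1)) := by
  simp [EB2mat, NB2, MB2, tab3, nListB2, mListB2, ix5, Matrix.mulVec, dotProduct,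
    Fintype.sum_sum_type, Fin.sum_univ_two, Matrix.add_apply, Matrix.one_apply]
  try ring

theorem E7_Q (t : K) (v : I5 → K) :
    Cfsg.quadFormOdd 2 K (EB2mat K 7 t *ᵥ v) = Cfsg.quadFormOdd 2 K v := by
  rw [Q_eq, Q_eq, E7_x0, E7_x1, E7_x2, E7_y1, E7_y2]
  ring

theorem E2_e1 (t : K) : EB2mat K 2 t *ᵥ eB K 0 = eB K 0 := by
  apply vec_ext <;> simp [E2_x0, E2_x1, E2_x2, E2_y1, E2_y2, eB, fB]

theorem E2_f1 (t : K) : EB2mat K 2 t *ᵥ fB K 0 = fB K 0 := by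
  apply vec_ext <;> simp [E2_x0, E2_x1, E2_x2, E2_y1, E2_y2, eB, fB]

theorem E5_e1 (t : K) : EB2mat K 5 t *ᵥ eB K 0 = eB K 0 := by
  apply vec_ext <;> simp [E5_x0, E5_x1, E5_x2, E5_y1, E5_y2, eB, fB]

theorem E5_f1 (t : K) : EB2mat K 5 t *ᵥ fB K 0 = fB K 0 := by
  apply vec_ext <;> simp [E5_x0, E5_x1, E5_x2, E5_y1, E5_y2, eB, fB]

theorem E5_e2 (t : K) : EB2mat K 5 t *ᵥ eB K 1 = eB K 1 := by
  apply vec_ext <;> simp [E5_x0, E5_x1, E5_x2, E5_y1, E5_y2, eB, fB]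

theorem E6_e1 (t : K) : EB2mat K 6 t *ᵥ eB K 0 = eB K 0 := by
  apply vec_ext <;> simp [E6_x0, E6_x1, E6_x2, E6_y1, E6_y2, eB, fB]

theorem E4_e1 (t : K) : EB2mat K 4 t *ᵥ eB K 0 = eB K 0 := by
  apply vec_ext <;> simp [E4_x0, E4_x1, E4_x2, E4_y1, E4_y2, eB, fB]

theorem E7_e1 (t : K) : EB2mat K 7 t *ᵥ eB K 0 = eB K 0 := by
  apply vec_ext <;> simp [E7_x0, E7_x1, E7_x2, E7_y1, E7_y2, eB, fB]

theorem Q_add_e1 (v : I5 → K) (c : K) :
    Cfsg.quadFormOdd 2 K (v + c • eB K 0) = Cfsg.quadFormOdd 2 K v + c * v (Sum.inr (Sum.inr 0)) := by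
  rw [Q_eq, Q_eq]
  simp [eB, fB]
  ring

theorem Q_add_f1 (v : I5 → K) (c : K) :
    Cfsg.quadFormOdd 2 K (v + c • fB K 0) = Cfsg.quadFormOdd 2 K v + c * v (Sum.inr (Sum.inl 0)) := by
  rw [Q_eq, Q_eq]
  simp [eB, fB]
  ring

theorem Q_add_e2 (v : I5 → K) (c : K) :
    Cfsg.quadFormOdd 2 K (v + c • eB K 1) = Cfsg.quadFormOdd 2 K v + c * v (Sum.inr (Sum.inr 1)) := by
  rw [Q_eq, Q_eq]
  simp [eB, fB]
  ring

theorem Q_add_f2 (v : I5 → K) (c : K) :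
    Cfsg.quadFormOdd 2 K (v + c • fB K 1) = Cfsg.quadFormOdd 2 K v + c * v (Sum.inr (Sum.inl 1)) := by
  rw [Q_eq, Q_eq]
  simp [eB, fB]
  ring

/-- matrices of elements of `R` that preserve `Q` -/
def Good (M : Matrix I5 I5 K) : Prop :=
  (∃ ρ ∈ RB2 K, (ρ : Matrix I5 I5 K) = M) ∧
    ∀ x, Cfsg.quadFormOdd 2 K (M *ᵥ x) = Cfsg.quadFormOdd 2 K x

theorem Good.mul {M N : Matrix I5 I5 K} (hM : Good M) (hN : Good N) : Good (M * N) := by
  obtain ⟨⟨ρ, hρ, rfl⟩, hQ⟩ := hM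
  obtain ⟨⟨σ, hσ, rfl⟩, hQ'⟩ := hN
  refine ⟨⟨ρ * σ, mul_mem hρ hσ, Units.val_mul ρ σ⟩, ?_⟩
  intro x
  rw [← Matrix.mulVec_mulVec, hQ, hQ']

theorem good_E (hU : PkgUnitB2.{u}) (r : ℕ) (hr : r < 8) (t : K) : Good (EB2mat K r t) := by
  refine ⟨⟨EB2 K ⟨r, hr⟩ t, Subgroup.subset_closure ⟨(⟨r, hr⟩, t), rfl⟩, ?_⟩, ?_⟩
  · unfold EB2
    rw [dif_pos (hU K r t hr)]
    exact IsUnit.unit_spec _
  · intro x
    interval_cases r
    · exact E0_Q t x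
    · exact E1_Q t x
    · exact E2_Q t x
    · exact E3_Q t x
    · exact E4_Q t x
    · exact E5_Q t x
    · exact E6_Q t x
    · exact E7_Q t x

end Cfsg.Agent.Lib.Helper38.CHO
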