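import Cfsg.Agent.Lib.Helper38.CHO.B2Lib

/-!
# CHO package [ST-B2-0] (S1083): the first reduction step for `x_0^2 + x_1 y_1 + x_2 y_2`
-/

set_option autoImplicit false

namespace Cfsg.Agent.Lib.Helper38.CHO

open Matrix Cfsg.Agent.Lib.Helper99.CHO

universe u

variable {K : Type u} [Field K]

/-- a singular vector with `x_1 ≠ 0` is moved to `x_1 • e_1` -/
theorem b20_key (hU : PkgUnitB2.{u}) (v : I5 → K) (hQv : Cfsg.quadFormOdd 2 K v = 0)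
    (hx1 : v (Sum.inr (Sum.inl 0)) ≠ 0) :
    ∃ M : Matrix I5 I5 K, Good M ∧ ∃ a : K, a ≠ 0 ∧ M *ᵥ v = a • eB K 0 := by
  obtain ⟨a, ha⟩ : ∃ a, a = v (Sum.inr (Sum.inl 0)) := ⟨_, rfl⟩
  rw [← ha] at hx1
  -- first step: kill `x_0`
  obtain ⟨v1, hv1⟩ : ∃ v1, v1 = EB2mat K 1 (-(v (Sum.inl ())) / a) *ᵥ v := ⟨_, rfl⟩
  have h1Q : Cfsg.quadFormOdd 2 K v1 = 0 := by rw [hv1, E1_Q, hQv]
  have h1x0 : v1 (Sum.inl ()) = 0 := by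
    rw [hv1, E1_x0, ← ha]
    field_simp
    ring
  have h1x1 : v1 (Sum.inr (Sum.inl 0)) = a := by rw [hv1, E1_x1, ← ha]
  -- second step: kill `x_2`
  obtain ⟨v2, hv2⟩ : ∃ v2, v2 = EB2mat K 3 (-(v1 (Sum.inr (Sum.inl 1))) / a) *ᵥ v1 := ⟨_, rfl⟩
  have h2Q : Cfsg.quadFormOdd 2 K v2 = 0 := by rw [hv2, E3_Q, h1Q]
  have h2x0 : v2 (Sum.inl ()) = 0 := by rw [hv2, E3_x0, h1x0]
  have h2x1 : v2 (Sum.inr (Sum.inl 0)) = a := by rw [hv2, E3_x1, h1x1]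
  have h2x2 : v2 (Sum.inr (Sum.inl 1)) = 0 := by
    rw [hv2, E3_x2, h1x1]
    field_simp
    ring
  -- third step: kill `y_2`
  obtain ⟨v3, hv3⟩ : ∃ v3, v3 = EB2mat K 0 (-(v2 (Sum.inr (Sum.inr 1))) / a) *ᵥ v2 := ⟨_, rfl⟩
  have h3Q : Cfsg.quadFormOdd 2 K v3 = 0 := by rw [hv3, E0_Q, h2Q]
  have h3x0 : v3 (Sum.inl ()) = 0 := by rw [hv3, E0_x0, h2x0]
  have h3x1 : v3 (Sum.inr (Sum.inl 0)) = a := by rw [hv3, E0_x1, h2x1]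
  have h3x2 : v3 (Sum.inr (Sum.inl 1)) = 0 := by rw [hv3, E0_x2, h2x2]
  have h3y2 : v3 (Sum.inr (Sum.inr 1)) = 0 := by
    rw [hv3, E0_y2, h2x1]
    field_simp
    ring
  have h3y1 : v3 (Sum.inr (Sum.inr 0)) = 0 := by
    rw [Q_eq, h3x0, h3x1, h3x2, h3y2] at h3Q
    have e : a * v3 (Sum.inr (Sum.inr 0)) = 0 := by linear_combination h3Q
    exact (mul_eq_zero.1 e).resolve_left hx1
  refine ⟨EB2mat K 0 (-(v2 (Sum.inr (Sum.inr 1))) / a) *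
      (EB2mat K 3 (-(v1 (Sum.inr (Sum.inl 1))) / a) * EB2mat K 1 (-(v (Sum.inl ())) / a)),
    (good_E hU 0 (by norm_num) _).mul ((good_E hU 3 (by norm_num) _).mul
      (good_E hU 1 (by norm_num) _)), a, hx1, ?_⟩
  rw [← Matrix.mulVec_mulVec, ← Matrix.mulVec_mulVec, ← hv1, ← hv2, ← hv3]
  apply vec_ext <;> simp [h3x0, h3x1, h3x2, h3y1, h3y2, eB]

theorem b20_step1 (hU : PkgUnitB2.{u}) (v : I5 → K) (hQv : Cfsg.quadFormOdd 2 K v = 0)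
    (hv : v ≠ 0) :
    ∃ M : Matrix I5 I5 K, Good M ∧ ∃ a : K, a ≠ 0 ∧ M *ᵥ v = a • eB K 0 := by
  by_cases hx1 : v (Sum.inr (Sum.inl 0)) = 0
  · -- make `x_1 ≠ 0` with one root element `E`
    have hE : ∃ E : Matrix I5 I5 K, Good E ∧ (E *ᵥ v) (Sum.inr (Sum.inl 0)) ≠ 0 := by
      by_cases hx2 : v (Sum.inr (Sum.inl 1)) = 0
      · by_cases hy2 : v (Sum.inr (Sum.inr 1)) = 0
        · have hx0 : v (Sum.inl ()) = 0 := by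
            rw [Q_eq, hx2, hx1] at hQv
            have e : v (Sum.inl ()) ^ 2 = 0 := by linear_combination hQv
            exact pow_eq_zero_iff (two_ne_zero) |>.1 e
          have hy1 : v (Sum.inr (Sum.inr 0)) ≠ 0 := by
            intro h
            apply hv
            apply vec_ext <;> simp [hx0, hx1, hx2, hy2, h]
          refine ⟨EB2mat K 6 1, good_E hU 6 (by norm_num) 1, ?_⟩
          rw [E6_x1, hx1, hx0]
          simpa using hy1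
        · refine ⟨EB2mat K 7 1, good_E hU 7 (by norm_num) 1, ?_⟩
          rw [E7_x1, hx1]
          simpa using hy2
      · refine ⟨EB2mat K 4 1, good_E hU 4 (by norm_num) 1, ?_⟩
        rw [E4_x1, hx1]
        simpa using hx2
    obtain ⟨E, hE, hEx⟩ := hE
    obtain ⟨M, hM, a, ha, hMv⟩ := b20_key hU (E *ᵥ v) (by rw [hE.2, hQv]) hEx
    exact ⟨M * E, hM.mul hE, a, ha, by rw [← Matrix.mulVec_mulVec, hMv]⟩
  · exact b20_key hU v hQv hx1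

theorem b20_step2 (hU : PkgUnitB2.{u}) (w : I5 → K) (a : K) (ha : a ≠ 0)
    (hy1 : w (Sum.inr (Sum.inr 0)) = a⁻¹) (hQw : Cfsg.quadFormOdd 2 K w = 0) :
    ∃ M : Matrix I5 I5 K, Good M ∧ M *ᵥ eB K 0 = eB K 0 ∧ M *ᵥ w = a⁻¹ • fB K 0 := by
  -- first step: kill `x_0`
  obtain ⟨w1, hw1⟩ : ∃ w1, w1 = EB2mat K 6 (w (Sum.inl ()) * a) *ᵥ w := ⟨_, rfl⟩
  have h1Q : Cfsg.quadFormOdd 2 K w1 = 0 := by rw [hw1, E6_Q, hQw]
  have h1x0 : w1 (Sum.inl ()) = 0 := by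
    rw [hw1, E6_x0, hy1]
    field_simp
    ring
  have h1y1 : w1 (Sum.inr (Sum.inr 0)) = a⁻¹ := by rw [hw1, E6_y1, hy1]
  -- second step: kill `y_2`
  obtain ⟨w2, hw2⟩ : ∃ w2, w2 = EB2mat K 4 (w1 (Sum.inr (Sum.inr 1)) * a) *ᵥ w1 := ⟨_, rfl⟩
  have h2Q : Cfsg.quadFormOdd 2 K w2 = 0 := by rw [hw2, E4_Q, h1Q]
  have h2x0 : w2 (Sum.inl ()) = 0 := by rw [hw2, E4_x0, h1x0]
  have h2y1 : w2 (Sum.inr (Sum.inr 0)) = a⁻¹ := by rw [hw2, E4_y1, h1y1]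
  have h2y2 : w2 (Sum.inr (Sum.inr 1)) = 0 := by
    rw [hw2, E4_y2, h1y1]
    field_simp
    ring
  -- third step: kill `x_2`
  obtain ⟨w3, hw3⟩ : ∃ w3, w3 = EB2mat K 7 (w2 (Sum.inr (Sum.inl 1)) * a) *ᵥ w2 := ⟨_, rfl⟩
  have h3Q : Cfsg.quadFormOdd 2 K w3 = 0 := by rw [hw3, E7_Q, h2Q]
  have h3x0 : w3 (Sum.inl ()) = 0 := by rw [hw3, E7_x0, h2x0]
  have h3y1 : w3 (Sum.inr (Sum.inr 0)) = a⁻¹ := by rw [hw3, E7_y1, h2y1]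
  have h3y2 : w3 (Sum.inr (Sum.inr 1)) = 0 := by rw [hw3, E7_y2, h2y2]
  have h3x2 : w3 (Sum.inr (Sum.inl 1)) = 0 := by
    rw [hw3, E7_x2, h2y1]
    field_simp
    ring
  have h3x1 : w3 (Sum.inr (Sum.inl 0)) = 0 := by
    rw [Q_eq, h3x0, h3y1, h3x2, h3y2] at h3Q
    have e : w3 (Sum.inr (Sum.inl 0)) * a⁻¹ = 0 := by linear_combination h3Q
    exact (mul_eq_zero.1 e).resolve_right (inv_ne_zero ha)
  refine ⟨EB2mat K 7 (w2 (Sum.inr (Sum.inl 1)) * a) *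
      (EB2mat K 4 (w1 (Sum.inr (Sum.inr 1)) * a) * EB2mat K 6 (w (Sum.inl ()) * a)),
    (good_E hU 7 (by norm_num) _).mul ((good_E hU 4 (by norm_num) _).mul
      (good_E hU 6 (by norm_num) _)), ?_, ?_⟩
  · rw [← Matrix.mulVec_mulVec, ← Matrix.mulVec_mulVec, E6_e1, E4_e1, E7_e1]
  · rw [← Matrix.mulVec_mulVec, ← Matrix.mulVec_mulVec, ← hw1, ← hw2, ← hw3]
    apply vec_ext <;> simp [h3x0, h3x1, h3x2, h3y1, h3y2, fB]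

/-- [ST-B2-0] -/
theorem pkgStB20_of (hU : PkgUnitB2.{u}) : PkgStB2.{u} 0 := by
  intro K _ g hg _
  have hQ : ∀ x, Cfsg.quadFormOdd 2 K ((g : Matrix I5 I5 K) *ᵥ x) = Cfsg.quadFormOdd 2 K x :=
    fun x => hg x x
  obtain ⟨v, hvdef⟩ : ∃ v, v = (g : Matrix I5 I5 K) *ᵥ eB K 0 := ⟨_, rfl⟩
  have hQv : Cfsg.quadFormOdd 2 K v = 0 := by
    rw [hvdef, hQ, Q_eq]
    simp [eB]
  have hvne : v ≠ 0 := by
    intro h0
    have e := hQ (eB K 0 + fB K 0)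
    rw [Matrix.mulVec_add, ← hvdef, h0, zero_add, hQ, Q_eq, Q_eq] at e
    simp [eB, fB] at e
  obtain ⟨M1, hM1, a, ha, hM1v⟩ := b20_step1 hU v hQv hvne
  obtain ⟨w, hwdef⟩ : ∃ w, w = M1 *ᵥ ((g : Matrix I5 I5 K) *ᵥ fB K 0) := ⟨_, rfl⟩
  have hQ' : ∀ x, Cfsg.quadFormOdd 2 K (M1 *ᵥ ((g : Matrix I5 I5 K) *ᵥ x)) =
      Cfsg.quadFormOdd 2 K x := fun x => by rw [hM1.2, hQ]
  have hQw : Cfsg.quadFormOdd 2 K w = 0 := by
    rw [hwdef, hQ', Q_eq]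
    simp [fB]
  have hwy1 : w (Sum.inr (Sum.inr 0)) = a⁻¹ := by
    have e := hQ' (fB K 0 + eB K 0)
    rw [Matrix.mulVec_add, Matrix.mulVec_add, ← hwdef, ← hvdef, hM1v, Q_add_e1, hQw] at e
    have e2 : Cfsg.quadFormOdd 2 K (fB K 0 + eB K 0) = 1 := by
      rw [Q_eq]
      simp [eB, fB]
    rw [e2, zero_add] at e
    exact eq_inv_of_mul_eq_one_right e
  obtain ⟨M2, hM2, hM2e1, hM2w⟩ := b20_step2 hU w a ha hwy1 hQw
  obtain ⟨ρ, hρ, hρM⟩ := (hM2.mul hM1).1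
  refine ⟨ρ, hρ, ?_⟩
  have hcoe : ((ρ * g : GL I5 K) : Matrix I5 I5 K) = M2 * M1 * (g : Matrix I5 I5 K) := by
    rw [Units.val_mul, hρM]
  intro i hi
  have hi0 : i = 0 := by
    apply Fin.ext
    simpa using hi
  subst hi0
  refine ⟨a, ha, ?_, ?_⟩
  · rw [hcoe, ← Matrix.mulVec_mulVec, ← Matrix.mulVec_mulVec, ← hvdef, hM1v, Matrix.mulVec_smul,
      hM2e1]
  · rw [hcoe, ← Matrix.mulVec_mulVec, ← Matrix.mulVec_mulVec, ← hwdef, hM2w]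

end Cfsg.Agent.Lib.Helper38.CHO
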